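import Cfsg.Agent.H123.Cls.ListCover
import Cfsg.Agent.H777.Ore.Base
import Cfsg.Agent.H78.Pw.Base
import Cfsg.Agent.H134.Sq.Base

/-!
# Class enumeration certificates: more invariants, four involutions, products of two `k`-elements (helper763)

Additions to the engine of helper123 (`H123/Cls`).
* `cover_J`: the cover with an arbitrary invariant `J`; `chi`: an invariant which may separate `r` and `r⁻¹`;
* `chkPow`, `chkEqP`: tests of words on a base of `N`;
* `allC_of_cover`, `inv4_of_cover`, `pw_of_cover`.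
-/

set_option autoImplicit false

namespace Cfsg.Agent.H763.Cls

open Equiv Cfsg.Agent.H123.Cls Cfsg.Agent.Lib.BitNet
open Cfsg.Agent.Lib.BitNetSimple (force force_eq tb tb_eq)

variable {n : ℕ}

/-- **The classes cover the group**: list version, arbitrary invariant. -/
theorem cover_J {K w : ℕ} {row : ℕ → ℕ} {A N : Subgroup (Perm (Fin n))} (hn : n ≤ 2 ^ K) (hA : A ≤ Aut n row)
    (hnA : ∀ a ∈ A, ∀ x ∈ N, a * x * a⁻¹ ∈ N) {a : ℕ} (haA : a ≤ Nat.card A) (D : List (ℕ × ℕ × List ℕ))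
    (hr : ∀ x ∈ D, ∃ g ∈ N, ∀ p : Fin n, (g p : ℕ) = lk w x.1 p)
    (hc : ∀ x ∈ D, ∃ l L, chkB n K row w x.1 l L x.2.1 = true)
    (J : Perm (Fin n) → List ℕ) (hJ : ∀ b ∈ A, ∀ r, J (b * r * b⁻¹) = J r)
    (hs : ∀ x ∈ D, ∀ r : Perm (Fin n), (∀ p : Fin n, (r p : ℕ) = lk w x.1 p) → J r = x.2.2)
    (hnd : (D.map fun x => x.2.2).Nodup)
    (hsum : Nat.card N ≤ (D.map fun x => a / (x.2.1 + 1)).sum) :
    ∀ g ∈ N, ∃ x ∈ D, ∃ r ∈ N, (∀ p : Fin n, (r p : ℕ) = lk w x.1 p) ∧ ∃ b ∈ A, g = b * r * b⁻¹ := by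
  have hmem : ∀ i : Fin D.length, D[i.1] ∈ D := fun i => List.getElem_mem i.2
  have hinj : Function.Injective (fun i : Fin D.length => (D[i.1]).2.2) := by
    intro i j hij
    have h1 := (List.nodup_iff_injective_get.1 hnd)
    have h2 : (⟨i.1, by rw [List.length_map]; exact i.2⟩ : Fin (D.map fun x => x.2.2).length) =
        ⟨j.1, by rw [List.length_map]; exact j.2⟩ := by
      apply h1
      simpa using hij
    have h3 := congrArg Fin.val h2
    exact Fin.ext h3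
  have hr' : ∀ i : Fin D.length, ∃ g ∈ N, ∀ p : Fin n, (g p : ℕ) = lk w (D[i.1]).1 p := fun i => hr _ (hmem i)
  choose r hrN hrp using hr'
  have h := cover hnA r hrN (fun i => (D[i.1]).2.1 + 1) ?_ ?_ ?_
  · intro g hg
    obtain ⟨i, b, hb, h1⟩ := h g hg
    exact ⟨_, hmem i, r i, hrN i, hrp i, b, hb, h1⟩
  · intro i
    obtain ⟨l, L, h1⟩ := hc _ (hmem i)
    refine card_le_bound hn (hrp i) h1 (inf_le_left.trans hA) fun σ hσ p => ?_
    have h2 := Subgroup.mem_centralizer_singleton_iff.1 (Subgroup.mem_inf.1 hσ).2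
    exact congrArg (fun τ : Perm (Fin n) => τ p) h2
  · intro i j hij b hb h1
    apply hij
    apply hinj
    show (D[i.1]).2.2 = (D[j.1]).2.2
    rw [← hs _ (hmem i) _ (hrp i), ← hs _ (hmem j) _ (hrp j), ← h1, hJ b hb]
  · rw [Fin.sum_univ_fun_getElem D (fun x => Nat.card A / (x.2.1 + 1))]
    refine hsum.trans ?_
    clear hsum hrp hrN hinj hs hnd hc hr
    clear r hmem
    induction D with
    | nil => exact le_refl _
    | cons x D ih =>
      rw [List.map_cons, List.map_cons, List.sum_cons, List.sum_cons]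
      exact Nat.add_le_add (Nat.div_le_div_right haA) ih

/-! ### the invariant `chi` -/

/-- `q` is joined to `r q` and to `p, r p, r² p, r⁴ p` -/
def Qc (row : ℕ → ℕ) (r : Perm (Fin n)) (p q : Fin n) : Prop :=
  (row q).testBit (r q) = true ∧ (row p).testBit q = true ∧ (row (r p)).testBit q = true ∧
    (row ((r ^ 2) p)).testBit q = true ∧ (row ((r ^ 4) p)).testBit q = true

/-- the invariant -/
noncomputable def chi (row : ℕ → ℕ) (r : Perm (Fin n)) : ℕ := ∑ p : Fin n, Nat.card {q : Fin n // Qc row r p q} ^ 2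

theorem chi_conj {row : ℕ → ℕ} {σ : Perm (Fin n)} (hσ : σ ∈ Aut n row) (r : Perm (Fin n)) :
    chi row (σ * r * σ⁻¹) = chi row r := by
  unfold chi
  symm
  refine Fintype.sum_equiv σ _ _ fun p => ?_
  congr 1
  refine Nat.card_congr (Equiv.subtypeEquiv σ fun q => ?_)
  have h1 : ∀ x : Fin n, (σ * r * σ⁻¹) (σ x) = σ (r x) := fun x => by
    rw [Perm.mul_apply, Perm.mul_apply, show σ⁻¹ (σ x) = x from Equiv.symm_apply_apply σ x]
  have h2 : ∀ (j : ℕ) (x : Fin n), ((σ * r * σ⁻¹) ^ j) (σ x) = σ ((r ^ j) x) := fun j x => by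
    rw [conj_pow, Perm.mul_apply, Perm.mul_apply, show σ⁻¹ (σ x) = x from Equiv.symm_apply_apply σ x]
  unfold Qc
  rw [h1, h1, h2, h2, hσ, hσ, hσ, hσ, hσ]

theorem popF_card {K : ℕ} (hn : n ≤ 2 ^ K) {x : ℕ} (hx : ∀ i, x.testBit i = true → i < n) :
    popF K x = Nat.card {q : Fin n // x.testBit q = true} := by
  rw [popF_eq]
  have h1 := card_pts_le (n := n) hn x
  have h2 := card_pts_eq (n := n) (K := K) (x := x) hx
  rw [le_antisymm h2 h1, ← Fintype.card_coe, ← Nat.card_eq_fintype_card]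
  exact Nat.card_congr (Equiv.subtypeEquivRight fun i => by rw [mem_pts])

/-- the sum of the values -/
noncomputable def sumN (f : ℕ → ℕ) (m : ℕ) : ℕ := Nat.rec 0 (fun i s => Nat.add s (f i)) m

theorem sumN_eq (f : ℕ → ℕ) (m : ℕ) : sumN f m = ∑ i ∈ Finset.range m, f i := by
  induction m with
  | zero => rfl
  | succ m ih =>
    rw [Finset.sum_range_succ, ← ih]
    rfl

/-- the invariant `chi` of the table -/
noncomputable def chiF (n K : ℕ) (row : ℕ → ℕ) (w P : ℕ) : ℕ :=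
  force (adjM n K row w P 1) fun Q => sumN (fun p => force (lk w P p) fun p1 => force (lk w P p1) fun p2 =>
    force (lk w P p2) fun p3 => force (lk w P p3) fun p4 =>
    force (popF K (Nat.land (Nat.land Q (Nat.land (row p) (row p1))) (Nat.land (row p2) (row p4)))) fun t => Nat.mul t t) n

theorem chiF_eq {K w P : ℕ} {row : ℕ → ℕ} (hn : n ≤ 2 ^ K) {r : Perm (Fin n)} (hr : ∀ i, (r i : ℕ) = lk w P i) :
    chiF n K row w P = chi row r := by
  unfold chiF chi
  rw [force_eq, sumN_eq, ← Fin.sum_univ_eq_sum_range (fun p => force (lk w P p) fun p1 => force (lk w P p1) fun p2 =>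
    force (lk w P p2) fun p3 => force (lk w P p3) fun p4 =>
    force (popF K (Nat.land (Nat.land (adjM n K row w P 1) (Nat.land (row p) (row p1))) (Nat.land (row p2) (row p4))))
      fun t => Nat.mul t t) n]
  refine Finset.sum_congr rfl fun p _ => ?_
  simp only [force_eq]
  have e2 : (r ^ 2) p = r (r p) := rfl
  have e4 : (r ^ 4) p = r (r (r (r p))) := rfl
  have hq : ∀ q : Fin n, (adjM n K row w P 1).testBit q = true ↔ (row q).testBit (r q) = true := by
    intro q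
    have h := testBit_pwM (row := row) hn hr (true, 1) q
    rw [pow_one] at h
    exact h
  have hlt : ∀ i, (adjM n K row w P 1).testBit i = true → i < n := fun i hi => pwM_lt (row := row) (true, 1) i hi
  have hc : popF K (Nat.land (Nat.land (adjM n K row w P 1) (Nat.land (row p) (row (lk w P p))))
      (Nat.land (row (lk w P (lk w P p))) (row (lk w P (lk w P (lk w P (lk w P p))))))) =
      Nat.card {q : Fin n // Qc row r p q} := by
    have hb : ∀ q : ℕ, (Nat.land (Nat.land (adjM n K row w P 1) (Nat.land (row p) (row (lk w P p))))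
        (Nat.land (row (lk w P (lk w P p))) (row (lk w P (lk w P (lk w P (lk w P p))))))).testBit q =
        (((adjM n K row w P 1).testBit q && ((row p).testBit q && (row (lk w P p)).testBit q)) &&
          ((row (lk w P (lk w P p))).testBit q && (row (lk w P (lk w P (lk w P (lk w P p))))).testBit q)) := by
      intro q
      show ((adjM n K row w P 1 &&& (row p &&& row (lk w P p))) &&&
        (row (lk w P (lk w P p)) &&& row (lk w P (lk w P (lk w P (lk w P p)))))).testBit q = _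
      simp only [Nat.testBit_and]
    rw [popF_card hn]
    · refine Nat.card_congr (Equiv.subtypeEquivRight fun q => ?_)
      rw [hb]
      unfold Qc
      rw [e2, e4]
      simp only [Bool.and_eq_true, hq, hr]
      tauto
    · intro i hi
      rw [hb] at hi
      simp only [Bool.and_eq_true] at hi
      exact hlt i hi.1.1
  rw [hc, pow_two]
  rfl

/-- the test of `chi` -/
noncomputable def chkX (n K : ℕ) (row : ℕ → ℕ) (w P c : ℕ) : Bool := Nat.beq (chiF n K row w P) c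

/-- the full invariant -/
noncomputable def Jx (row : ℕ → ℕ) (key : List (Bool × ℕ)) (r : Perm (Fin n)) : List ℕ := chi row r :: key.map (pwc row r)

theorem Jx_conj {row : ℕ → ℕ} {key : List (Bool × ℕ)} {σ : Perm (Fin n)} (hσ : σ ∈ Aut n row) (r : Perm (Fin n)) :
    Jx row key (σ * r * σ⁻¹) = Jx row key r := by
  unfold Jx
  rw [chi_conj hσ]
  congr 1
  exact List.map_congr_left fun k _ => by rw [pwc_conj hσ]

theorem Jx_of {K w P c : ℕ} {row : ℕ → ℕ} {key : List (Bool × ℕ)} {cs : List ℕ} (hn : n ≤ 2 ^ K)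
    (h1 : chkX n K row w P c = true) (h2 : chkSig n K row w P key cs = true) (hl : cs.length = key.length)
    {r : Perm (Fin n)} (hr : ∀ i, (r i : ℕ) = lk w P i) : Jx row key r = c :: cs := by
  unfold Jx
  rw [← chiF_eq hn hr, Nat.eq_of_beq_eq_true h1, sig_of_chk hn hr h2 hl]

/-! ### words on a base -/

section

variable {w : ℕ} {tabs bs : List ℕ} {N : Subgroup (Perm (Fin n))}

/-- the points are a base -/
def Base (N : Subgroup (Perm (Fin n))) (bs : List ℕ) : Prop :=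
  (∀ b ∈ bs, b < n) ∧ ∀ g ∈ N, (∀ b : Fin n, (b : ℕ) ∈ bs → g b = b) → g = 1

theorem Base.eq {bs : List ℕ} (hb : Base N bs) {g h : Perm (Fin n)} (hg : g ∈ N) (hh : h ∈ N)
    (H : ∀ b : Fin n, (b : ℕ) ∈ bs → g b = h b) : g = h := by
  have h1 : h⁻¹ * g = 1 := hb.2 _ (N.mul_mem (N.inv_mem hh) hg) fun b hbb => by
    rw [Perm.mul_apply, H b hbb]
    exact Equiv.symm_apply_apply h b
  rw [inv_mul_eq_one] at h1
  exact h1.symm

/-- all members -/
noncomputable def allL (l : List ℕ) (f : ℕ → Bool) : Bool := List.rec true (fun x _ ih => band (f x) ih) l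

theorem allL_iff {l : List ℕ} {f : ℕ → Bool} (h : allL l f = true) : ∀ x ∈ l, f x = true := by
  induction l with
  | nil => intro x hx; exact absurd hx List.not_mem_nil
  | cons y l ih =>
    obtain ⟨h1, h2⟩ := band_true (show band (f y) (allL l f) = true from h)
    intro x hx
    rcases List.mem_cons.1 hx with rfl | hx
    · exact h1
    · exact ih h2 x hx

/-- the `k`-th power of a word at a point -/
noncomputable def evn (w : ℕ) (tabs l : List ℕ) (k p : ℕ) : ℕ := Nat.rec p (fun _ ih => force ih fun q => evw w tabs l q) k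

/-- the `k`-th power of the word is trivial on the base -/
noncomputable def chkPow (w : ℕ) (tabs bs l : List ℕ) (k : ℕ) : Bool :=
  band (chkL tabs.length l) (allL bs fun b => Nat.beq (evn w tabs l k b) b)

/-- the word agrees with the table on the base -/
noncomputable def chkEqP (w : ℕ) (tabs bs : List ℕ) (P : ℕ) (l : List ℕ) : Bool :=
  allL bs fun b => Nat.beq (evw w tabs l b) (lk w P b)

theorem evw_append (l m : List ℕ) (p : ℕ) : evw w tabs (l ++ m) p = evw w tabs l (evw w tabs m p) := by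
  induction l with
  | nil => rfl
  | cons x l ih => rw [List.cons_append, evw_cons, ih, evw_cons]

/-- `g` is the value of the word -/
def Val (N : Subgroup (Perm (Fin n))) (w : ℕ) (tabs l : List ℕ) (g : Perm (Fin n)) : Prop :=
  g ∈ N ∧ ∀ p : Fin n, (g p : ℕ) = evw w tabs l p

theorem Val.mul {l m : List ℕ} {g h : Perm (Fin n)} (hg : Val N w tabs l g) (hh : Val N w tabs m h) :
    Val N w tabs (l ++ m) (g * h) :=
  ⟨N.mul_mem hg.1 hh.1, fun p => by rw [Perm.mul_apply, hg.2, hh.2, evw_append]⟩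

theorem Val.evn {l : List ℕ} {g : Perm (Fin n)} (hg : Val N w tabs l g) (k : ℕ) (p : Fin n) :
    ((g ^ k) p : ℕ) = evn w tabs l k p := by
  induction k with
  | zero => rfl
  | succ k ih =>
    rw [pow_succ', Perm.mul_apply, hg.2, ih]
    exact (force_eq (Cls.evn w tabs l k p) fun q => evw w tabs l q).symm

theorem exists_pow (ht : Tabs w N tabs) (hb : Base N bs) {l : List ℕ} {k : ℕ} (h : chkPow w tabs bs l k = true) :
    ∃ g, Val N w tabs l g ∧ g ^ k = 1 := by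
  obtain ⟨h1, h2⟩ := band_true h
  obtain ⟨g, hg, hgp⟩ := exists_evw ht l (chkL_iff _ l h1)
  refine ⟨g, ⟨hg, hgp⟩, hb.2 _ (N.pow_mem hg k) fun b hbb => Fin.ext ?_⟩
  rw [Val.evn ⟨hg, hgp⟩]
  exact Nat.eq_of_beq_eq_true (allL_iff h2 b hbb)

theorem eq_of_chkEqP (hb : Base N bs) {P : ℕ} {l : List ℕ} (h : chkEqP w tabs bs P l = true) {r g : Perm (Fin n)}
    (hr : r ∈ N) (hrp : ∀ p : Fin n, (r p : ℕ) = lk w P p) (hg : Val N w tabs l g) : r = g :=
  hb.eq hr hg.1 fun b hbb => Fin.ext (by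
    rw [hrp, hg.2]
    exact (Nat.eq_of_beq_eq_true (allL_iff h b hbb)).symm)

/-- product of two elements of `N` with `k`-th power one -/
def PQ (N : Subgroup (Perm (Fin n))) (k : ℕ) (r : Perm (Fin n)) : Prop :=
  ∃ x ∈ N, ∃ y ∈ N, r = x * y ∧ x ^ k = 1 ∧ y ^ k = 1

/-- product of four elements of `N` with square one -/
def P4 (N : Subgroup (Perm (Fin n))) (r : Perm (Fin n)) : Prop :=
  ∃ x ∈ N, ∃ y ∈ N, ∃ z ∈ N, ∃ t ∈ N, r = x * y * z * t ∧ x ^ 2 = 1 ∧ y ^ 2 = 1 ∧ z ^ 2 = 1 ∧ t ^ 2 = 1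

/-- the certificate of `PQ` -/
noncomputable def chkQ (w : ℕ) (tabs bs : List ℕ) (P k : ℕ) (x y : List ℕ) : Bool :=
  band (chkPow w tabs bs x k) (band (chkPow w tabs bs y k) (chkEqP w tabs bs P (x ++ y)))

theorem pq_of (ht : Tabs w N tabs) (hb : Base N bs) {P k : ℕ} {x y : List ℕ} (h : chkQ w tabs bs P k x y = true)
    {r : Perm (Fin n)} (hr : r ∈ N) (hrp : ∀ p : Fin n, (r p : ℕ) = lk w P p) : PQ N k r := by
  obtain ⟨h1, h⟩ := band_true h
  obtain ⟨h2, h3⟩ := band_true h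
  obtain ⟨a, ha, ha'⟩ := exists_pow ht hb h1
  obtain ⟨b, hb1, hb'⟩ := exists_pow ht hb h2
  exact ⟨a, ha.1, b, hb1.1, eq_of_chkEqP hb h3 hr hrp (ha.mul hb1), ha', hb'⟩

/-- the certificate of `P4` -/
noncomputable def chk4 (w : ℕ) (tabs bs : List ℕ) (P : ℕ) (x y z t : List ℕ) : Bool :=
  band (chkPow w tabs bs x 2) (band (chkPow w tabs bs y 2) (band (chkPow w tabs bs z 2) (band (chkPow w tabs bs t 2)
    (chkEqP w tabs bs P (((x ++ y) ++ z) ++ t)))))

theorem p4_of (ht : Tabs w N tabs) (hb : Base N bs) {P : ℕ} {x y z t : List ℕ} (h : chk4 w tabs bs P x y z t = true)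
    {r : Perm (Fin n)} (hr : r ∈ N) (hrp : ∀ p : Fin n, (r p : ℕ) = lk w P p) : P4 N r := by
  obtain ⟨h1, h⟩ := band_true h
  obtain ⟨h2, h⟩ := band_true h
  obtain ⟨h3, h⟩ := band_true h
  obtain ⟨h4, h5⟩ := band_true h
  obtain ⟨a, ha, ha'⟩ := exists_pow ht hb h1
  obtain ⟨b, hb1, hb'⟩ := exists_pow ht hb h2
  obtain ⟨c, hc, hc'⟩ := exists_pow ht hb h3
  obtain ⟨d, hd, hd'⟩ := exists_pow ht hb h4
  exact ⟨a, ha.1, b, hb1.1, c, hc.1, d, hd.1, eq_of_chkEqP hb h5 hr hrp (((ha.mul hb1).mul hc).mul hd), ha', hb', hc', hd'⟩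

end

/-! ### conclusions -/

section

variable {w : ℕ} {A N : Subgroup (Perm (Fin n))} {D : List (ℕ × ℕ × List ℕ)}

/-- the conclusion of `cover_J` -/
def Cov (A N : Subgroup (Perm (Fin n))) (w : ℕ) (D : List (ℕ × ℕ × List ℕ)) : Prop :=
  ∀ g ∈ N, ∃ x ∈ D, ∃ r ∈ N, (∀ p : Fin n, (r p : ℕ) = lk w x.1 p) ∧ ∃ b ∈ A, g = b * r * b⁻¹

theorem pq_of_cover (hnA : ∀ a ∈ A, ∀ x ∈ N, a * x * a⁻¹ ∈ N) (hcov : Cov A N w D) {k : ℕ}
    (h : ∀ x ∈ D, ∀ r ∈ N, (∀ p : Fin n, (r p : ℕ) = lk w x.1 p) → PQ N k r) : ∀ g ∈ N, PQ N k g := by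
  intro g hg
  obtain ⟨x, hx, r, hr, hrt, b, hb, rfl⟩ := hcov g hg
  obtain ⟨u, hu, v, hv, e, hu2, hv2⟩ := h x hx r hr hrt
  refine ⟨b * u * b⁻¹, hnA b hb u hu, b * v * b⁻¹, hnA b hb v hv, by rw [e]; group, ?_, ?_⟩
  · rw [conj_pow, hu2]; group
  · rw [conj_pow, hv2]; group

theorem p4_of_cover (hnA : ∀ a ∈ A, ∀ x ∈ N, a * x * a⁻¹ ∈ N) (hcov : Cov A N w D)
    (h : ∀ x ∈ D, ∀ r ∈ N, (∀ p : Fin n, (r p : ℕ) = lk w x.1 p) → P4 N r) : ∀ g ∈ N, P4 N g := by
  intro g hg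
  obtain ⟨x, hx, r, hr, hrt, b, hb, rfl⟩ := hcov g hg
  obtain ⟨u, hu, v, hv, s, hs, t, ht, e, hu2, hv2, hs2, ht2⟩ := h x hx r hr hrt
  refine ⟨b * u * b⁻¹, hnA b hb u hu, b * v * b⁻¹, hnA b hb v hv, b * s * b⁻¹, hnA b hb s hs,
    b * t * b⁻¹, hnA b hb t ht, by rw [e]; group, ?_, ?_, ?_, ?_⟩
  · rw [conj_pow, hu2]; group
  · rw [conj_pow, hv2]; group
  · rw [conj_pow, hs2]; group
  · rw [conj_pow, ht2]; group

open Cfsg.Agent.H777.Ore in
theorem inv4_of {S : Type*} [Group S] (e : S ≃* N) (h : ∀ g ∈ N, P4 N g) : Inv4 S := by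
  intro s
  obtain ⟨a, ha, b, hb, c, hc, d, hd, hg, ha2, hb2, hc2, hd2⟩ := h (e s) (e s).2
  have key : ∀ (x : Perm (Fin n)) (hx : x ∈ N), x ^ 2 = 1 → e.symm ⟨x, hx⟩ * e.symm ⟨x, hx⟩ = 1 := by
    intro x hx h2
    rw [← map_mul, ← map_one e.symm]
    congr 1
    apply Subtype.ext
    rw [pow_two] at h2
    exact h2
  refine ⟨e.symm ⟨a, ha⟩, e.symm ⟨b, hb⟩, e.symm ⟨c, hc⟩, e.symm ⟨d, hd⟩, key a ha ha2, key b hb hb2, key c hc hc2,
    key d hd hd2, ?_⟩
  rw [← map_mul, ← map_mul, ← map_mul]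
  exact e.eq_symm_apply.2 (Subtype.ext hg)

open Cfsg.Agent.H777.Ore in
theorem allC_of {S : Type*} [Group S] (e : S ≃* N) (h : ∀ g ∈ N, ∃ u ∈ N, ∃ v ∈ N, g = u * v * u⁻¹ * v⁻¹) :
    AllC S := by
  intro s
  obtain ⟨a, ha, b, hb, hg⟩ := h (e s) (e s).2
  refine ⟨e.symm ⟨a, ha⟩, e.symm ⟨b, hb⟩, ?_⟩
  rw [← map_inv, ← map_inv, ← map_mul, ← map_mul, ← map_mul]
  exact e.eq_symm_apply.2 (Subtype.ext hg)

open Cfsg.Agent.H78.Pw in
theorem all_of {S : Type*} [Group S] (e : S ≃* N) {q m : ℕ} (hq : q.Coprime m) (h : ∀ g ∈ N, PQ N q g) : All m S := by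
  refine All.of_two_pgroup hq fun s => ?_
  obtain ⟨a, ha, b, hb, hg, ha2, hb2⟩ := h (e s) (e s).2
  have key : ∀ (x : Perm (Fin n)) (hx : x ∈ N), x ^ q = 1 → (e.symm ⟨x, hx⟩) ^ q ^ 1 = 1 := by
    intro x hx h2
    rw [pow_one, ← map_pow, ← map_one e.symm]
    congr 1
    exact Subtype.ext h2
  refine ⟨e.symm ⟨a, ha⟩, e.symm ⟨b, hb⟩, ?_, ⟨1, key a ha ha2⟩, 1, key b hb hb2⟩
  rw [← map_mul]
  exact e.eq_symm_apply.2 (Subtype.ext hg)

open Cfsg.Agent.H78.Pw in
/-- `Pw` from two primes at least `5` -/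
theorem pw_of {S : Type*} [Group S] (e : S ≃* N) {q q' : ℕ} (hq : q.Prime) (hq5 : 5 ≤ q) (hq' : q'.Prime)
    (hne : q' ≠ q) (h : ∀ g ∈ N, PQ N q g) (h' : ∀ g ∈ N, PQ N q' g) : Pw S := by
  refine ⟨all_of e ?_ h, fun p hp h5 => ?_⟩
  · have h2 : q.Coprime 2 := (Nat.coprime_primes hq Nat.prime_two).2 (by omega)
    have h3 : q.Coprime 3 := (Nat.coprime_primes hq Nat.prime_three).2 (by omega)
    exact Nat.Coprime.mul_right h2 h3
  · by_cases hpq : p = q
    · subst hpq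
      exact all_of e ((Nat.coprime_primes hq' hp).2 hne) h'
    · exact all_of e ((Nat.coprime_primes hq hp).2 (Ne.symm hpq)) h

open Cfsg.Agent.H78.Pw Cfsg.Agent.H134.Sq in
theorem sq_of {S : Type*} [Group S] (h : Pw S) : AllP 2 S := by
  intro g
  obtain ⟨a, b, e⟩ := h.pow (m := 2) (Or.inl Nat.prime_two.isPrimePow) g
  exact ⟨a, b, e⟩

end

end Cfsg.Agent.H763.Cls
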